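import Groth.Agent.Lib.Thickening.FgIdeal
import Mathlib.AlgebraicGeometry.Morphisms.QuasiSeparated
import Mathlib.RingTheory.Localization.Finiteness
import Mathlib.Topology.Constructible

/-!
# Ideal sheaves of finite type with given support

On a quasi-compact quasi-separated scheme the complement of a quasi-compact open is the support of
an ideal sheaf of finite type.
-/

universe u

open CategoryTheory Limits AlgebraicGeometry Opposite TopologicalSpace

namespace GrothLib.FgSupport6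

open GrothLib.Thickening (res res_res res_self app_res exists_res_mul subFrom preimage_subFrom
  app_subFrom_eq_zero_iff)

variable {Y : Scheme.{u}}

/-- An intersection of an affine open with a quasi-compact open is a finite union of basic opens. -/
theorem exists_basicOpens [QuasiSeparatedSpace Y] (U : Y.affineOpens) {V : Y.Opens}
    (hV : IsCompact (V : Set Y)) :
    ∃ s : Finset Γ(Y, U.1), U.1 ⊓ V = ⨆ f ∈ s, Y.basicOpen f := by
  classical
  have hc : IsCompact ((U.1 ⊓ V : Y.Opens) : Set Y) :=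
    QuasiSeparatedSpace.inter_isCompact _ _ U.1.2 U.2.isCompact V.2 hV
  let T : Set Γ(Y, U.1) := {f | Y.basicOpen f ≤ U.1 ⊓ V}
  have hcov : ((U.1 ⊓ V : Y.Opens) : Set Y) ⊆ ⋃ f : T, (Y.basicOpen f.1 : Set Y) := by
    intro y hy
    obtain ⟨f, hle, hyf⟩ := U.2.exists_basicOpen_le ⟨y, hy⟩ hy.1
    exact Set.mem_iUnion.mpr ⟨⟨f, hle⟩, hyf⟩
  obtain ⟨t, ht⟩ := hc.elim_finite_subcover _ (fun f : T => (Y.basicOpen f.1).2) hcov
  refine ⟨t.image Subtype.val, le_antisymm (fun y hy => ?_) (iSup₂_le fun f hf => ?_)⟩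
  · obtain ⟨f, hft, hyf⟩ := Set.mem_iUnion₂.mp (ht hy)
    exact (le_iSup₂ (f := fun g (_ : g ∈ t.image Subtype.val) => Y.basicOpen g) f.1
      (Finset.mem_image_of_mem _ hft)) hyf
  · obtain ⟨g, -, rfl⟩ := Finset.mem_image.mp hf
    exact g.2

/-- A section in the ideal sheaf is, on a basic open, a fraction of one on the affine open. -/
theorem exists_num (M : Y.IdealSheafData) (U V : Y.affineOpens) (f : Γ(Y, U.1))
    (hf : Y.basicOpen f ≤ V.1) {x : Γ(Y, V.1)} (hx : x ∈ M.ideal V) :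
    ∃ (d : Γ(Y, U.1)) (n : ℕ), d ∈ M.ideal U ∧
      res hf x * res (Y.basicOpen_le f) f ^ n = res (Y.basicOpen_le f) d := by
  have h1 : res hf x ∈ (M.ideal U).map (res (Y.basicOpen_le f)) :=
    (((M.map_ideal (U := Y.affineBasicOpen f) (V := V) hf).trans
      (M.map_ideal (U := Y.affineBasicOpen f) (V := U) (Y.basicOpen_le f)).symm).le
        (Ideal.mem_map_of_mem _ hx))
  let := (res (Y.basicOpen_le f)).toAlgebra
  have : IsLocalization.Away f Γ(Y, Y.basicOpen f) := U.2.isLocalization_basicOpen f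
  obtain ⟨⟨d, ⟨_, n, rfl⟩⟩, hd⟩ :=
    (IsLocalization.mem_map_algebraMap_iff (Submonoid.powers f) _).mp h1
  exact ⟨d.1, n, d.2, by rw [← map_pow]; exact hd⟩

theorem quasiCompact_subFrom [QuasiSeparatedSpace Y] (U : Y.affineOpens) (P : Ideal Γ(Y, U.1)) :
    QuasiCompact (subFrom U P) := by
  have : QuasiCompact U.2.fromSpec := by
    have : QuasiCompact (U.2.fromSpec ≫ terminal.from Y) := inferInstance
    have : QuasiSeparated (terminal.from Y) := quasiSeparated_iff_quasiSeparatedSpace _ |>.mpr ‹_›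
    exact QuasiCompact.of_comp _ (terminal.from Y)
  have : IsClosedImmersion (Spec.map (CommRingCat.ofHom (Ideal.Quotient.mk P))) :=
    IsClosedImmersion.spec_of_surjective _ Ideal.Quotient.mk_surjective
  exact MorphismProperty.comp_mem _ _ _ inferInstance ‹_›

/-- Replace `M` on one affine open by a finitely generated ideal, keeping given sections. -/
theorem exists_le_fg [QuasiSeparatedSpace Y] (M : Y.IdealSheafData) (U : Y.affineOpens) {κ : Type*}
    [Fintype κ] (V : κ → Y.affineOpens)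
    (E : ∀ j, Finset Γ(Y, (V j).1)) (hE : ∀ j, (E j : Set Γ(Y, (V j).1)) ⊆ M.ideal (V j))
    (D : Finset Γ(Y, U.1)) (hD : (D : Set Γ(Y, U.1)) ⊆ M.ideal U) :
    ∃ M' ≤ M, (M'.ideal U).FG ∧ (D : Set Γ(Y, U.1)) ⊆ M'.ideal U ∧
      ∀ j, (E j : Set Γ(Y, (V j).1)) ⊆ M'.ideal (V j) := by
  classical
  choose s hs using fun j => exists_basicOpens U (V j).2.isCompact
  have hle : ∀ j (f : s j), Y.basicOpen f.1 ≤ (V j).1 := fun j f =>
    ((le_iSup₂ (f := fun g (_ : g ∈ s j) => Y.basicOpen g) f.1 f.2).trans (hs j).ge).trans inf_le_right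
  choose d n hd hdn using fun j (f : s j) (x : E j) => exists_num M U (V j) f.1 (hle j f) (hE j x.2)
  let P : Ideal Γ(Y, U.1) := Ideal.span
    ((D : Set Γ(Y, U.1)) ∪ Set.range fun p : (j : κ) × (_ : s j) × E j => d p.1 p.2.1 p.2.2)
  have hPfg : P.FG := Submodule.fg_span (D.finite_toSet.union (Set.finite_range _))
  have hPM : P ≤ M.ideal U := Ideal.span_le.mpr fun x hx => by
    rcases hx with hx | ⟨p, rfl⟩
    · exact hD hx
    · exact hd _ _ _
  have := quasiCompact_subFrom U P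
  refine ⟨M ⊓ (subFrom U P).ker, inf_le_left, ?_, ?_, fun j x hx => ⟨hE j hx, ?_⟩⟩
  · suffices h : (M ⊓ (subFrom U P).ker).ideal U = P by rw [h]; exact hPfg
    rw [Scheme.IdealSheafData.ideal_inf, Pi.inf_apply, Scheme.Hom.ker_apply]
    refine le_antisymm (fun x hx => (app_subFrom_eq_zero_iff U P x).mp hx.2)
      (le_inf hPM fun x hx => (app_subFrom_eq_zero_iff U P x).mpr hx)
  · intro x hx
    refine ⟨hD hx, ?_⟩
    rw [Scheme.Hom.ker_apply, SetLike.mem_coe, RingHom.mem_ker]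
    exact (app_subFrom_eq_zero_iff U P x).mpr (Ideal.subset_span (Or.inl hx))
  · rw [Scheme.Hom.ker_apply, SetLike.mem_coe, RingHom.mem_ker]
    let φ := subFrom U P
    refine TopCat.Sheaf.eq_of_locally_eq' (Spec (CommRingCat.of (Γ(Y, U.1) ⧸ P))).sheaf
      (fun f : s j => φ ⁻¹ᵁ Y.basicOpen f.1) _ (fun f => homOfLE (φ.preimage_mono (hle j f))) ?_ _ _
      fun f => ?_
    · intro z hz
      have hzU : φ z ∈ U.1 ⊓ (V j).1 :=
        ⟨(preimage_subFrom U P).ge (show z ∈ ⊤ from trivial), hz⟩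
      rw [hs j] at hzU
      obtain ⟨g, hg⟩ := Opens.mem_iSup.mp hzU
      obtain ⟨hgs, hzg⟩ := Opens.mem_iSup.mp hg
      exact Opens.mem_iSup.mpr ⟨⟨g, hgs⟩, hzg⟩
    · show res (φ.preimage_mono (hle j f)) (φ.app (V j).1 x) = res (φ.preimage_mono (hle j f)) 0
      rw [map_zero, ← app_res φ (hle j f)]
      have hdP : φ.app U.1 (d j f ⟨x, hx⟩) = 0 := (app_subFrom_eq_zero_iff U P _).mpr
        (Ideal.subset_span (Or.inr ⟨⟨j, f, ⟨x, hx⟩⟩, rfl⟩))
      have hu : IsUnit (res (Y.basicOpen_le f.1) f.1) :=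
        Y.toRingedSpace.isUnit_res_basicOpen f.1
      have h1 := congrArg (φ.app (Y.basicOpen f.1)).hom (hdn j f ⟨x, hx⟩)
      rw [map_mul, app_res φ (Y.basicOpen_le f.1) (d j f ⟨x, hx⟩), hdP, map_zero] at h1
      exact ((hu.pow _).map (φ.app (Y.basicOpen f.1)).hom).mul_left_eq_zero.mp h1

/-- A sub-ideal sheaf finitely generated on each member of a cover, containing given sections. -/
theorem exists_fg_le [QuasiSeparatedSpace Y] {ι : Type*} [Fintype ι] (U : ι → Y.affineOpens)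
    (K : Y.IdealSheafData) (D : ∀ k, Finset Γ(Y, (U k).1))
    (hD : ∀ k, (D k : Set Γ(Y, (U k).1)) ⊆ K.ideal (U k)) :
    ∃ M ≤ K, (∀ k, (M.ideal (U k)).FG) ∧ ∀ k, (D k : Set Γ(Y, (U k).1)) ⊆ M.ideal (U k) := by
  classical
  suffices h : ∀ s : Finset ι, ∃ M ≤ K, (∀ k ∈ s, (M.ideal (U k)).FG) ∧
      ∀ k, (D k : Set Γ(Y, (U k).1)) ⊆ M.ideal (U k) by
    obtain ⟨M, hM, h1, h2⟩ := h Finset.univ
    exact ⟨M, hM, fun k => h1 k (Finset.mem_univ k), h2⟩
  intro s
  induction s using Finset.induction with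
  | empty => exact ⟨K, le_rfl, by simp, hD⟩
  | insert k s hk ih =>
    obtain ⟨M, hMK, hfg, hDM⟩ := ih
    choose G hG using fun m (hm : m ∈ s) => hfg m hm
    let E : ∀ m, Finset Γ(Y, (U m).1) := fun m => if hm : m ∈ s then G m hm ∪ D m else D m
    have hE : ∀ m, (E m : Set Γ(Y, (U m).1)) ⊆ M.ideal (U m) := fun m => by
      by_cases hm : m ∈ s
      · simp only [E, dif_pos hm, Finset.coe_union, Set.union_subset_iff]
        exact ⟨(hG m hm) ▸ Ideal.subset_span, hDM m⟩
      · simp only [E, dif_neg hm]; exact hDM m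
    obtain ⟨M', hM', hfgU, -, hEM⟩ := exists_le_fg M (U k) U E hE (D k) (hDM k)
    refine ⟨M', hM'.trans hMK, fun m hm => ?_, fun m x hx => hEM m ?_⟩
    · rcases Finset.mem_insert.mp hm with rfl | hms
      · exact hfgU
      · have : M'.ideal (U m) = M.ideal (U m) := le_antisymm (hM' _) (by
          rw [← hG m hms]
          refine Ideal.span_le.mpr fun x hx => hEM m ?_
          simp [E, dif_pos hms, Finset.mem_coe.mp hx])
        exact this ▸ hfg m hms
    · by_cases hm : m ∈ s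
      · simp [E, dif_pos hm, Finset.mem_coe.mp hx]
      · simp [E, dif_neg hm, Finset.mem_coe.mp hx]

/-- Finite generation of an ideal sheaf can be checked on an affine open cover. -/
theorem fg_of_cover (M : Y.IdealSheafData) {ι : Type*} (U : ι → Y.affineOpens)
    (hU : ∀ y : Y, ∃ k, y ∈ (U k).1) (hfg : ∀ k, (M.ideal (U k)).FG) (W : Y.affineOpens) :
    (M.ideal W).FG := by
  let T : Set Γ(Y, W.1) := {g | ∃ k, ∃ g' : Γ(Y, (U k).1), Y.basicOpen g = Y.basicOpen g'}
  have hT : Ideal.span T = ⊤ := by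
    rw [← W.2.iSup_basicOpen_eq_self_iff]
    refine le_antisymm (iSup_le fun g => Y.basicOpen_le _) fun y hy => ?_
    obtain ⟨k, hk⟩ := hU y
    obtain ⟨g, g', hgg, hyg⟩ := exists_basicOpen_le_affine_inter W.2 (U k).2 y ⟨hy, hk⟩
    exact Opens.mem_iSup.mpr ⟨⟨g, k, g', hgg⟩, hyg⟩
  refine Ideal.fg_of_localizationSpan T hT fun ⟨g, k, g', hgg⟩ => ?_
  have := W.2.isLocalization_basicOpen g
  let e : Γ(Y, Y.basicOpen g) ≃ₐ[Γ(Y, W.1)] Localization.Away g :=
    IsLocalization.algEquiv (Submonoid.powers g) _ _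
  have hle : Y.basicOpen g ≤ (U k).1 := hgg ▸ Y.basicOpen_le g'
  rw [show algebraMap Γ(Y, W.1) (Localization.Away g) = e.toRingHom.comp (algebraMap _ _) from
    e.toAlgHom.comp_algebraMap.symm, ← Ideal.map_map]
  refine Ideal.FG.map ?_ _
  show ((M.ideal W).map (Y.presheaf.map (homOfLE (Y.basicOpen_le g)).op).hom).FG
  exact (congrArg Ideal.FG ((M.map_ideal (U := Y.affineBasicOpen g) (V := W) (Y.basicOpen_le g)).trans
    (M.map_ideal (U := Y.affineBasicOpen g) (V := U k) hle).symm)).mpr ((hfg k).map _)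

/-- The complement of a quasi-compact open is the support of an ideal sheaf of finite type. -/
theorem exists_fg_support_eq [CompactSpace Y] [QuasiSeparatedSpace Y] (V : Y.Opens)
    (hV : IsCompact (V : Set Y)) :
    ∃ I : Y.IdealSheafData, (∀ W : Y.affineOpens, (I.ideal W).FG) ∧
      (I.support : Set Y) = (V : Set Y)ᶜ := by
  classical
  let K := Scheme.IdealSheafData.vanishingIdeal (X := Y) ⟨(V : Set Y)ᶜ, V.2.isClosed_compl⟩
  let 𝒰 := Y.affineCover.finiteSubcover
  have hcov : ∀ y : Y, ∃ i, y ∈ (𝒰.f i).opensRange := fun y => ⟨_, 𝒰.covers y⟩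
  let U : 𝒰.I₀ → Y.affineOpens := fun i => ⟨(𝒰.f i).opensRange, isAffineOpen_opensRange _⟩
  choose D hD using fun i => exists_basicOpens (U i) hV
  obtain ⟨M, hMK, hfg, hDM⟩ := exists_fg_le U K D fun i x hx => by
    rw [Scheme.IdealSheafData.vanishingIdeal_ideal, SetLike.mem_coe,
      PrimeSpectrum.mem_vanishingIdeal]
    intro p hp
    by_contra hxp
    apply hp
    have h1 : p ∈ (U i).2.fromSpec ⁻¹ᵁ Y.basicOpen x := by
      rw [(U i).2.fromSpec_preimage_basicOpen]; exact hxp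
    exact ((le_iSup₂ (f := fun g (_ : g ∈ D i) => Y.basicOpen g) x hx).trans (hD i).ge h1).2
  refine ⟨M, fg_of_cover M U hcov hfg, Set.Subset.antisymm (fun y hy hyV => ?_) ?_⟩
  · obtain ⟨i, hi⟩ := hcov y
    have hy' := (Scheme.IdealSheafData.mem_support_iff_of_mem (U := U i) hi).mp hy
    have hyD : y ∈ (U i).1 ⊓ V := ⟨hi, hyV⟩
    rw [hD i] at hyD
    obtain ⟨g, hg⟩ := Opens.mem_iSup.mp hyD
    obtain ⟨hgs, hyg⟩ := Opens.mem_iSup.mp hg
    exact (Scheme.mem_zeroLocus_iff _ _ _).mp hy' g (hDM i hgs) hyg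
  · exact SetLike.coe_subset_coe.mpr
      ((Scheme.IdealSheafData.le_support_iff_le_vanishingIdeal).mpr hMK)

end GrothLib.FgSupport6
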