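import Groth.Agent.Lib.FgSupport6.Exists
import Groth.Agent.Lib.BlowUp.Exists
import Groth.Prelude.Def_BlowUp2

/-!
# Separating closed constructible sets by an admissible blow-up
-/

universe u

open CategoryTheory Limits AlgebraicGeometry Opposite TopologicalSpace

namespace GrothLib.FgSupport6

variable {X X' : Scheme.{u}}

theorem isCompact_of_isConstructible {X : Type*} [TopologicalSpace X] [CompactSpace X] {s : Set X}
    (hs : Topology.IsConstructible s) : IsCompact s := by
  refine BooleanSubalgebra.closure_sdiff_sup_induction (s := {U : Set X | IsOpen U ∧ IsRetrocompact U})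
    (p := fun t _ => IsCompact t)
    ⟨fun _ ha _ hb => ⟨ha.1.union hb.1, ha.2.union hb.2⟩,
      fun _ ha _ hb => ⟨ha.1.inter hb.1, ha.2.inter_isOpen hb.2 hb.1⟩⟩
    ⟨isOpen_empty, .empty⟩ ⟨isOpen_univ, .univ⟩
    (fun a ha b hb => ha.2.isCompact.diff hb.1) (fun a _ b _ ha hb => ha.union hb) s hs

/-- The open complement in `U` of a closed constructible subset of `U` is quasi-compact. -/
theorem exists_open_diff [QuasiSeparatedSpace X] (U : X.Opens) (hU : IsCompact (U : Set X)) (T : Set U)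
    (hT : IsClosed T) (cT : Topology.IsConstructible T) :
    ∃ V : X.Opens, IsCompact (V : Set X) ∧ (V : Set X)ᶜ ∩ U = Subtype.val '' T := by
  have : CompactSpace U := isCompact_iff_compactSpace.mp hU
  have : QuasiSeparatedSpace U :=
    U.isOpenEmbedding'.quasiSeparatedSpace
  refine ⟨⟨Subtype.val '' Tᶜ, U.2.isOpenMap_subtype_val _ hT.isOpen_compl⟩,
    IsCompact.image ?_ continuous_subtype_val, ?_⟩
  · exact @isCompact_of_isConstructible _ _ (isCompact_iff_compactSpace.mp hU) _ cT.compl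
  · ext x
    constructor
    · rintro ⟨h1, h2⟩
      exact ⟨⟨x, h2⟩, not_not.mp fun hn => h1 ⟨_, hn, rfl⟩, rfl⟩
    · rintro ⟨y, hy, rfl⟩
      exact ⟨fun ⟨z, hz, e⟩ => hz (Subtype.ext e ▸ hy), y.2⟩

/-- The blow-up in a sum of two ideals separates the parts of their zero sets off the centre. -/
theorem disjoint_closure (b : X' ⟶ X) (I₁ I₂ : X.IdealSheafData)
    (hb : BlowUp.IsEffCartierIdeal ((I₁ ⊔ I₂).comap b)) (A₁ A₂ : Set X)
    (h₁ : A₁ ⊆ I₁.support) (h₂ : A₂ ⊆ I₂.support) (hA₁ : Disjoint A₁ ((I₁ ⊔ I₂).support : Set X))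
    (hA₂ : Disjoint A₂ ((I₁ ⊔ I₂).support : Set X)) :
    Disjoint (closure (b ⁻¹' A₁)) (closure (b ⁻¹' A₂)) := by
  rw [Set.disjoint_left]
  intro x hx₁ hx₂
  obtain ⟨W, hxW, e, he, hW⟩ := hb x
  rw [Scheme.IdealSheafData.comap_sup, Scheme.IdealSheafData.ideal_sup, Pi.sup_apply] at hW
  obtain ⟨a, ha, c, hc, hac⟩ := Submodule.mem_sup.mp (hW.ge (Ideal.mem_span_singleton_self e))
  obtain ⟨a', rfl⟩ := Ideal.mem_span_singleton'.mp (hW.le (Submodule.mem_sup_left ha))
  obtain ⟨c', rfl⟩ := Ideal.mem_span_singleton'.mp (hW.le (Submodule.mem_sup_right hc))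
  have h1 : a' + c' = 1 := by
    refine (mem_nonZeroDivisors_iff_right.mp he (a' + c' - 1) ?_ |> sub_eq_zero.mp)
    rw [sub_mul, add_mul, one_mul, hac, sub_self]
  -- one of the two cofactors is invertible near `x`
  have key : ∀ (I : X.IdealSheafData) (A : Set X) (q : Γ(X', W.1)), A ⊆ I.support →
      Disjoint A ((I₁ ⊔ I₂).support : Set X) → q * e ∈ (I.comap b).ideal W → x ∈ closure (b ⁻¹' A) →
      x ∉ X'.basicOpen q := by
    intro I A q hI hA hqe hx hxq
    obtain ⟨y, hyq, hyA⟩ := mem_closure_iff.mp hx _ (X'.basicOpen q).2 hxq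
    have hyW : y ∈ W.1 := X'.basicOpen_le q hyq
    have hsupp : y ∈ ((I.comap b).support : Set X') := by
      rw [Scheme.IdealSheafData.support_comap]; exact hI hyA
    have hye : y ∈ X'.basicOpen e := by
      by_contra hne
      refine Set.disjoint_left.mp hA hyA ?_
      have hz : y ∈ X'.zeroLocus (U := W.1) (((I₁ ⊔ I₂).comap b).ideal W) := by
        rw [Scheme.IdealSheafData.comap_sup, Scheme.IdealSheafData.ideal_sup, Pi.sup_apply, hW,
          Scheme.zeroLocus_span, Scheme.mem_zeroLocus_iff]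
        rintro _ rfl
        exact hne
      have hy' : y ∈ (((I₁ ⊔ I₂).comap b).support : Set X') :=
        (Scheme.IdealSheafData.mem_support_iff_of_mem (U := W) hyW).mpr hz
      rw [Scheme.IdealSheafData.support_comap] at hy'
      exact hy'
    refine (Scheme.mem_zeroLocus_iff _ _ _).mp
      ((Scheme.IdealSheafData.mem_support_iff_of_mem (U := W) hyW).mp hsupp) _ hqe ?_
    rw [Scheme.basicOpen_mul]
    exact ⟨hyq, hye⟩
  have hu : IsUnit (X'.presheaf.germ W.1 x hxW a') ∨ IsUnit (X'.presheaf.germ W.1 x hxW c') := by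
    refine IsLocalRing.isUnit_or_isUnit_of_add_one ?_
    rw [← map_add, h1, map_one]
  rcases hu with h | h
  · exact key I₁ A₁ a' h₁ hA₁ ha hx₁ ((X'.mem_basicOpen _ x hxW).mpr h)
  · exact key I₂ A₂ c' h₂ hA₂ hc hx₂ ((X'.mem_basicOpen _ x hxW).mpr h)

end GrothLib.FgSupport6
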